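import Mathlib
import Cfsg.Agent.Lib.Helper33.Breadth.Defs

set_option autoImplicit false

/-!
Project BREADTH (helper33, S3777): package [E3M], the matrix lemma (Chevalley-Warning + Cramer).
-/

namespace Cfsg.Agent.Lib.Helper62.Breadth

open MvPolynomial Matrix

/-- The determinant of a matrix of polynomials of total degree `≤ 1` has total degree at most
the size of the matrix. -/
theorem totalDegree_det_le {σ : Type*} {K : Type*} [CommRing K] {n : Type*} [Fintype n]
    [DecidableEq n] (M : Matrix n n (MvPolynomial σ K)) (h : ∀ i j, (M i j).totalDegree ≤ 1) :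
    M.det.totalDegree ≤ Fintype.card n := by
  rw [Matrix.det_apply]
  apply MvPolynomial.totalDegree_finsetSum_le
  intro τ _
  have h1 : (∏ i, M (τ i) i).totalDegree ≤ Fintype.card n := by
    refine (MvPolynomial.totalDegree_finsetProd _ _).trans ?_
    calc ∑ i, (M (τ i) i).totalDegree ≤ ∑ _i : n, 1 := Finset.sum_le_sum (fun i _ => h _ _)
      _ = Fintype.card n := by simp
  rcases Int.units_eq_one_or (Equiv.Perm.sign τ) with h2 | h2
  · rw [h2, one_smul]; exact h1
  · rw [h2, Units.neg_smul, one_smul, MvPolynomial.totalDegree_neg]; exact h1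

/-- [E3M] the matrix lemma. -/
theorem pkgE3M : Cfsg.Agent.Lib.Helper33.Breadth.PkgE3M := by
  intro p _ d B hB hB0
  by_contra hcon
  push Not at hcon
  obtain ⟨N, hN⟩ : ∃ N : Matrix (Fin (d + 1)) (Fin (d + 1)) (MvPolynomial (Fin (d + 1)) (ZMod p)),
      N = ∑ i, (X i : MvPolynomial (Fin (d + 1)) (ZMod p)) • (B i).map C := ⟨_, rfl⟩
  obtain ⟨v, hv⟩ : ∃ v : Fin (d + 1) → MvPolynomial (Fin (d + 1)) (ZMod p),
      v = fun j => X j := ⟨_, rfl⟩
  have hNentry : ∀ k j, N k j = ∑ i, X i * C (B i k j) := by
    intro k j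
    rw [hN, Matrix.sum_apply]
    refine Finset.sum_congr rfl (fun i _ => ?_)
    simp [Matrix.smul_apply]
  -- `N *ᵥ v = 0`
  have hNv : N *ᵥ v = 0 := by
    funext k
    simp only [Matrix.mulVec, dotProduct, Pi.zero_apply, hNentry, hv]
    simp only [Finset.sum_mul]
    rw [← Finset.sum_product']
    refine Finset.sum_involution (fun a _ => (a.2, a.1)) ?_ ?_ ?_ ?_
    · rintro ⟨j, i⟩ _
      simp only
      rw [hB i j k]
      simp only [map_neg]
      ring
    · rintro ⟨j, i⟩ _ hne heq
      simp only [Prod.mk.injEq] at heq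
      obtain ⟨h1, -⟩ := heq
      subst h1
      apply hne
      simp [hB0]
    · intro a _
      exact Finset.mem_univ _
    · rintro ⟨j, i⟩ _
      rfl
  have hAv : (1 + N) *ᵥ v = v := by
    rw [Matrix.add_mulVec, hNv, Matrix.one_mulVec, add_zero]
  have hcr : ((1 + N).updateCol 0 v).det = (1 + N).det * X 0 := by
    rw [← Matrix.cramer_apply, Matrix.cramer_eq_adjugate_mulVec]
    have h1 : (1 + N).adjugate *ᵥ v = (1 + N).adjugate *ᵥ ((1 + N) *ᵥ v) := by rw [hAv]
    rw [h1, Matrix.mulVec_mulVec, Matrix.adjugate_mul, Matrix.smul_mulVec, Matrix.one_mulVec]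
    simp [hv]
  -- evaluation
  have hev : ∀ a : Fin (d + 1) → ZMod p,
      eval a (1 + N).det = (1 + ∑ i, a i • B i).det := by
    intro a
    rw [RingHom.map_det]
    congr 1
    ext k j
    simp only [RingHom.mapMatrix_apply, Matrix.map_apply, Matrix.add_apply, map_add, hNentry,
      map_sum, map_mul, eval_X, eval_C, Matrix.sum_apply, Matrix.smul_apply, smul_eq_mul]
    congr 1
    by_cases hkj : k = j
    · subst hkj; simp
    · simp [Matrix.one_apply_ne hkj]
  have hne : (1 + N).det ≠ 0 := by
    intro h0
    have h1 := hev 0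
    rw [h0] at h1
    simp at h1
  -- degree bound
  have hdeg1 : (((1 + N).updateCol 0 v).det).totalDegree ≤ d + 1 := by
    have h1 := totalDegree_det_le ((1 + N).updateCol 0 v) (by
      intro i j
      by_cases hj : j = 0
      · subst hj
        simp only [Matrix.updateCol_self, hv]
        exact (MvPolynomial.totalDegree_X _).le
      · rw [Matrix.updateCol_ne hj, Matrix.add_apply]
        refine (MvPolynomial.totalDegree_add _ _).trans (max_le ?_ ?_)
        · by_cases hij : i = j
          · subst hij; simp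
          · simp [Matrix.one_apply_ne hij]
        · rw [hNentry]
          apply MvPolynomial.totalDegree_finsetSum_le
          intro l _
          refine (MvPolynomial.totalDegree_mul _ _).trans ?_
          rw [MvPolynomial.totalDegree_X, MvPolynomial.totalDegree_C])
    simpa using h1
  have hdeg2 : (1 + N).det.totalDegree + 1 ≤ d + 1 := by
    rw [hcr, MvPolynomial.totalDegree_mul_of_isDomain hne (MvPolynomial.X_ne_zero _),
      MvPolynomial.totalDegree_X] at hdeg1
    exact hdeg1
  have hp2 : 2 ≤ p := (Fact.out : p.Prime).two_le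
  have hlt : (1 + N).det.totalDegree < (Fintype.card (ZMod p) - 1) * Fintype.card (Fin (d + 1)) := by
    rw [ZMod.card, Fintype.card_fin]
    have h1 : 1 ≤ p - 1 := by omega
    calc (1 + N).det.totalDegree < d + 1 := by omega
      _ = 1 * (d + 1) := by ring
      _ ≤ (p - 1) * (d + 1) := Nat.mul_le_mul_right _ h1
  have hsum := MvPolynomial.sum_eval_eq_zero (1 + N).det hlt
  rw [Finset.sum_eq_single (0 : Fin (d + 1) → ZMod p)] at hsum
  · rw [hev 0] at hsum
    simp at hsum
  · intro a _ ha
    rw [hev a]
    exact hcon a ha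
  · intro h
    exact absurd (Finset.mem_univ _) h

end Cfsg.Agent.Lib.Helper62.Breadth
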