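import Mathlib
import Cfsg.Agent.Lib.Helper33.Breadth.Defs
import Cfsg.Agent.Lib.Helper62.Breadth.E3M

set_option autoImplicit false

/-!
Project BREADTH (helper33, S3777): package [E3], the coordinate-free version of [E3M].
-/

namespace Cfsg.Agent.Lib.Helper62.Breadth

universe u

open Matrix

/-- [E3] an alternating product on a nonzero finite `𝔽_p`-space. -/
theorem pkgE3 : Cfsg.Agent.Lib.Helper33.Breadth.PkgE3.{u} := by
  intro p _ U _ _ _ _ θ hθ
  have hanti : ∀ x y : U, θ x y = - θ y x := by
    intro x y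
    have h := hθ (x + y)
    simp only [map_add, LinearMap.add_apply, hθ, zero_add, add_zero] at h
    exact eq_neg_of_add_eq_zero_right h
  have : Module.Finite (ZMod p) U := Module.Finite.of_finite
  obtain ⟨d, hd⟩ : ∃ d, Module.finrank (ZMod p) U = d + 1 := by
    have h0 : 0 < Module.finrank (ZMod p) U := Module.finrank_pos
    exact ⟨Module.finrank (ZMod p) U - 1, by omega⟩
  obtain ⟨e⟩ : Nonempty (Module.Basis (Fin (d + 1)) (ZMod p) U) :=
    ⟨Module.finBasisOfFinrankEq (ZMod p) U hd⟩
  obtain ⟨B, hBdef⟩ : ∃ B : Fin (d + 1) → Matrix (Fin (d + 1)) (Fin (d + 1)) (ZMod p),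
      ∀ i k j, B i k j = e.repr (θ (e j) (e i)) k := ⟨fun i k j => e.repr (θ (e j) (e i)) k,
        fun _ _ _ => rfl⟩
  have hB : ∀ i j k, B i k j = - B j k i := by
    intro i j k
    rw [hBdef, hBdef, hanti (e j) (e i)]
    simp
  have hB0 : ∀ i k, B i k i = 0 := by
    intro i k
    rw [hBdef, hθ]
    simp
  obtain ⟨a, ha, hdet⟩ := pkgE3M p d B hB hB0
  refine ⟨∑ i, a i • e i, ?_, ?_⟩
  · intro h0
    apply ha
    have h1 := e.repr_sum_self a
    rw [h0] at h1
    rw [← h1]
    simp
  · intro c hc
    have hx : (1 + ∑ i, a i • B i) *ᵥ (fun j => e.repr c j) = 0 := by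
      funext k
      have h1 : e.repr (c + θ c (∑ i, a i • e i)) k = 0 := by rw [hc]; simp
      rw [map_add, Finsupp.add_apply] at h1
      have h2 : θ c (∑ i, a i • e i) = ∑ j, ∑ i, (e.repr c j * a i) • θ (e j) (e i) := by
        conv_lhs => rw [← e.sum_repr c]
        simp only [map_sum, map_smul, LinearMap.sum_apply, LinearMap.smul_apply, Finset.smul_sum,
          smul_smul]
        rw [Finset.sum_comm]
        refine Finset.sum_congr rfl (fun j _ => Finset.sum_congr rfl (fun i _ => ?_))
        rw [mul_comm]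
      rw [h2] at h1
      simp only [map_sum, map_smul, Finsupp.coe_finsetSum, Finsupp.smul_apply, Finset.sum_apply,
        smul_eq_mul] at h1
      have h4 : ((1 + ∑ i, a i • B i) *ᵥ (fun j => e.repr c j)) k
          = e.repr c k + ∑ j, ∑ i, e.repr c j * a i * B i k j := by
        rw [Matrix.add_mulVec, Matrix.one_mulVec, Pi.add_apply]
        congr 1
        simp only [Matrix.mulVec, dotProduct, Matrix.sum_apply, Matrix.smul_apply, smul_eq_mul,
          Finset.sum_mul]
        refine Finset.sum_congr rfl (fun j _ => Finset.sum_congr rfl (fun i _ => ?_))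
        ring
      rw [h4, Pi.zero_apply, ← h1]
      congr 1
      refine Finset.sum_congr rfl (fun j _ => Finset.sum_congr rfl (fun i _ => ?_))
      rw [hBdef]
    have hx0 := Matrix.eq_zero_of_mulVec_eq_zero hdet hx
    have h3 : e.repr c = 0 := by
      ext j
      exact congrFun hx0 j
    exact (LinearEquiv.map_eq_zero_iff e.repr).mp h3

end Cfsg.Agent.Lib.Helper62.Breadth
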